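import Cfsg.Agent.H0.ORu.D
set_option maxRecDepth 100000
set_option Elab.async false
set_option linter.unusedSectionVars false
namespace H0.ORu
open H0 BN 
theorem defs_ok : DefsOK R.p defs 13 := defsOK_of_chk c38
universe u
variable {G : Type u} [Group G] [Finite G] (m0 : Model G) (h0 : m0.R = H0.MRu.R)
noncomputable def m : Model G := m0.ext (lg := nat_lit 12) (N := nat_lit 4096) (l := H0.MRu.nl) h0 nl nl_ok 13 rfl defs defs_ok (by decide +kernel)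
theorem mR : (m m0 h0).R = R := rfl
variable (hb : m0.pst [988, 1, 1756, 0] = ⊥) (hc : Nat.card G = 145926144000)
include h0 hb hc
theorem base : (m m0 h0).pst [988, 1, 1756, 0] = ⊥ := hb
omit hb hc in
theorem xch_ok : (m m0 h0).ChainOK xch [] := ((m m0 h0).chain_cons [0, 1, 0, 1, 0, 1, 0, 1, 0, 1, 0, 1, 0, 1, 0, 1, 0, 1, 0, 1, 0] (Model.via _ (mR m0 h0) (fun R => Model.fixP R [] [[16], [17]]) c6) (Model.via _ (mR m0 h0) (fun R => Model.growP R [[16], [17]] [0, 1, 0, 1, 0, 1, 0, 1, 0, 1, 0, 1, 0, 1, 0, 1, 0, 1, 0, 1, 0] 1726 4060) c7) ((m m0 h0).chain_cons [0, 1, 0, 1, 0, 1, 0, 1, 0, 1, 0, 1, 0, 1, 0, 1, 0, 1, 0] (Model.via _ (mR m0 h0) (fun R => Model.fixP R [1726] [[18], [19]]) c4) (Model.via _ (mR m0 h0) (fun R => Model.growP R [[18], [19]] [0, 1, 0, 1, 0, 1, 0, 1, 0, 1, 0, 1, 0, 1, 0, 1, 0, 1, 0] 2872 1755) c5) ((m m0 h0).chain_cons [0, 1, 0, 1, 0, 1, 0, 1, 0, 1, 0, 1, 0, 1, 0, 1, 0] (Model.via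 _ (mR m0 h0) (fun R => Model.fixP R [2872, 1726] [[20], [21]]) c2) (Model.via _ (mR m0 h0) (fun R => Model.growP R [[20], [21]] [0, 1, 0, 1, 0, 1, 0, 1, 0, 1, 0, 1, 0, 1, 0, 1, 0] 3612 640) c3) ((m m0 h0).chain_cons [0, 1, 0, 1, 0, 1, 1, 0] (Model.via _ (mR m0 h0) (fun R => Model.fixP R [3612, 2872, 1726] [[22], [23]]) c0) (Model.via _ (mR m0 h0) (fun R => Model.growP R [[22], [23]] [0, 1, 0, 1, 0, 1, 1, 0] 2177 32) c1) ((m m0 h0).chain_nil _)))))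
theorem xtop : gen (m m0 h0).g (Model.cgens xch) = ⊤ := (m m0 h0).chain_top (xch_ok m0 h0) (hc.trans (by decide +kernel))
theorem xbdd : (m m0 h0).Bdd := (m m0 h0).bdd_of_top (xtop m0 h0 hb hc)
theorem xot : (m m0 h0).OTOK xOT := ((m m0 h0).otok_cons (xch_ok m0 h0) (hc.trans (by decide +kernel)) 1 rfl (Model.via _ (mR m0 h0) (fun R => Model.invB R (Model.cgens (xch.drop 1)) xO0) c15) ((m m0 h0).otok_cons (xch_ok m0 h0) (hc.trans (by decide +kernel)) 1 rfl (Model.via _ (mR m0 h0) (fun R => Model.invB R (Model.cgens (xch.drop 1)) xO1) c14) ((m m0 h0).otok_cons (xch_ok m0 h0) (hc.trans (by decide +kernel)) 2 rfl (Model.via _ (mR m0 h0) (fun R => Model.invB R (Model.cgens (xch.drop 2)) xO2) c13) ((m m0 h0).otok_cons (xch_ok m0 h0) (hc.trans (by decide +kernel)) 0 rfl (Model.via _ (mR m0 h0) (fun R => Model.invB R (Model.cgens (xch.drop 0)) xO3) c12) (m m0 h0).otok_nil))))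
theorem xcm : ∀ w ∈ xCg, (m m0 h0).Cm [[13]] (ev (m m0 h0).g w) := (m m0 h0).cm_of_pairs (all_take_done (all_take_step (all_take_zero _ (xCg.flatMap fun w => [[13]].map fun y => (w ++ y, y ++ w))) ((m m0 h0).pairs_of (base m0 h0 hb hc) (Model.via _ (mR m0 h0) (fun R => pairsB R [988, 1, 1756, 0] (((xCg.flatMap fun w => [[13]].map fun y => (w ++ y, y ++ w)).drop 0).take 1)) c16))) (by decide +kernel))
theorem xn1 : (m m0 h0).Sol [[13]] xCg [2359, 2956, 3776, 1288, 4057, 2177, 3612, 2872, 1726] [2359, 2956, 3776, 1288, 4057, 2177, 3612, 2872, 1726] := (m m0 h0).sol_done [5, 6, 7, 8] (((m m0 h0).chain_bot (xch_ok m0 h0) (hc.trans (by decide +kernel))).le.trans bot_le) (by decide +kernel)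
theorem xn0 : (m m0 h0).Sol [[13]] xCg [] [] := (m m0 h0).sol_free (xbdd m0 h0 hb hc) (xcm m0 h0 hb hc) (xot m0 h0 hb hc) ((m m0 h0).excl_zero _ _) (Model.via _ (mR m0 h0) (fun R => freeB R xOT [[13]] xCg [] [] [] [] 1726 0 [([], 1726, 3)] [[0]] [0, 0, 0, 0, 0, 0, 0, 0, 0, 0, 0, 0, 0, 0, 0, 0, 0, 0, 0, 0, 0, 0, 0, 0, 0, 0, 0, 0] xc11) c11) ((m m0 h0).solL_leaves (xot m0 h0 hb hc) [0] (Bc := [2359, 2956, 3776, 1288, 4057, 2177, 3612, 2872, 1726]) (Model.via _ (mR m0 h0) (fun R => cycB R (subst [[13]] [0]) [2359, 2956, 3776, 1288, 4057, 2177, 3612, 2872, 1726]) c8) (Model.via _ (mR m0 h0) (fun R => allL (leafB R xOT (subst [[13]] [0]) [5, 6, 7, 8] [2359, 2956, 3776, 1288, 4057, 2177, 3612, 2872, 1726] [] []) xL10) c10) ((m m0 h0).solL_cons ((m m0 h0).sol_cyc [0] (Bc := [2359, 2956, 3776, 1288, 4057, 2177, 3612, 2872, 1726]) (T := [2359, 2956, 3776, 1288, 4057, 2177, 3612, 2872, 1726]) rfl (Model.via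 _ (mR m0 h0) (fun R => cycB R (subst [[13]] [0]) [2359, 2956, 3776, 1288, 4057, 2177, 3612, 2872, 1726]) c8) (Model.via _ (mR m0 h0) (fun R => cycB R (subst [[13]] [0]) [2359, 2956, 3776, 1288, 4057, 2177, 3612, 2872, 1726]) c9) (xn1 m0 h0 hb hc)) (m m0 h0).solL_nil))
theorem xsol : (m m0 h0).Sol [[13]] xCg [] [] := xn0 m0 h0 hb hc
omit hb hc in
theorem ych_ok : (m m0 h0).ChainOK ych [] := ((m m0 h0).chain_cons [0, 1, 0, 1, 0, 1, 0, 1, 0, 1, 0, 1, 0, 1, 0, 1, 0, 1, 0, 1, 0] (Model.via _ (mR m0 h0) (fun R => Model.fixP R [] [[16], [17]]) c23) (Model.via _ (mR m0 h0) (fun R => Model.growP R [[16], [17]] [0, 1, 0, 1, 0, 1, 0, 1, 0, 1, 0, 1, 0, 1, 0, 1, 0, 1, 0, 1, 0] 3145 4060) c24) ((m m0 h0).chain_cons [0, 1, 0, 1, 0, 1, 0, 1, 0, 1, 0, 1, 0, 1, 0, 1, 0, 1, 0] (Model.via _ (mR m0 h0) (fun R => Model.fixP R [3145] [[24], [25]]) c21) (Model.via _ (mR m0 h0) (fun R => Model.growP R [[24], [25]] [0,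 1, 0, 1, 0, 1, 0, 1, 0, 1, 0, 1, 0, 1, 0, 1, 0, 1, 0] 737 1755) c22) ((m m0 h0).chain_cons [0, 1, 0, 1, 0, 1, 0, 1, 0, 1, 0, 1, 0, 1, 0, 1, 0] (Model.via _ (mR m0 h0) (fun R => Model.fixP R [737, 3145] [[26], [27]]) c19) (Model.via _ (mR m0 h0) (fun R => Model.growP R [[26], [27]] [0, 1, 0, 1, 0, 1, 0, 1, 0, 1, 0, 1, 0, 1, 0, 1, 0] 980 640) c20) ((m m0 h0).chain_cons [0, 1, 0, 1, 0, 1, 1, 0] (Model.via _ (mR m0 h0) (fun R => Model.fixP R [980, 737, 3145] [[28], [29]]) c17) (Model.via _ (mR m0 h0) (fun R => Model.growP R [[28], [29]] [0, 1, 0, 1, 0, 1, 1, 0] 443 32) c18) ((m m0 h0).chain_nil _)))))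
theorem ytop : gen (m m0 h0).g (Model.cgens ych) = ⊤ := (m m0 h0).chain_top (ych_ok m0 h0) (hc.trans (by decide +kernel))
theorem ybdd : (m m0 h0).Bdd := (m m0 h0).bdd_of_top (ytop m0 h0 hb hc)
theorem yot : (m m0 h0).OTOK yOT := ((m m0 h0).otok_cons (ych_ok m0 h0) (hc.trans (by decide +kernel)) 1 rfl (Model.via _ (mR m0 h0) (fun R => Model.invB R (Model.cgens (ych.drop 1)) yO0) c32) ((m m0 h0).otok_cons (ych_ok m0 h0) (hc.trans (by decide +kernel)) 1 rfl (Model.via _ (mR m0 h0) (fun R => Model.invB R (Model.cgens (ych.drop 1)) yO1) c31) ((m m0 h0).otok_cons (ych_ok m0 h0) (hc.trans (by decide +kernel)) 2 rfl (Model.via _ (mR m0 h0) (fun R => Model.invB R (Model.cgens (ych.drop 2)) yO2) c30) ((m m0 h0).otok_cons (ych_ok m0 h0) (hc.trans (by decide +kernel)) 0 rfl (Model.via _ (mR m0 h0) (fun R => Model.invB R (Model.cgens (ych.drop 0)) yO3) c29) (m m0 h0).otok_nil))))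
theorem ycm : ∀ w ∈ yCg, (m m0 h0).Cm [[14]] (ev (m m0 h0).g w) := (m m0 h0).cm_of_pairs (all_take_done (all_take_step (all_take_zero _ (yCg.flatMap fun w => [[14]].map fun y => (w ++ y, y ++ w))) ((m m0 h0).pairs_of (base m0 h0 hb hc) (Model.via _ (mR m0 h0) (fun R => pairsB R [988, 1, 1756, 0] (((yCg.flatMap fun w => [[14]].map fun y => (w ++ y, y ++ w)).drop 0).take 2)) c33))) (by decide +kernel))
theorem yn1 : (m m0 h0).Sol [[14]] yCg [3818, 2613, 2216, 1909, 443, 980, 737, 3145] [3818, 2613, 2216, 1909, 443, 980, 737, 3145] := (m m0 h0).sol_done [4, 5, 6, 7] (((m m0 h0).chain_bot (ych_ok m0 h0) (hc.trans (by decide +kernel))).le.trans bot_le) (by decide +kernel)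
theorem yn0 : (m m0 h0).Sol [[14]] yCg [] [] := (m m0 h0).sol_free (ybdd m0 h0 hb hc) (ycm m0 h0 hb hc) (yot m0 h0 hb hc) ((m m0 h0).excl_zero _ _) (Model.via _ (mR m0 h0) (fun R => freeB R yOT [[14]] yCg [] [] [] [] 3145 0 [([], 3145, 3)] [[0], [1]] [0, 1, 0, 0, 0, 0, 0, 0, 0, 0, 0, 0, 0, 0] yc28) c28) ((m m0 h0).solL_leaves (yot m0 h0 hb hc) [0] (Bc := [3818, 2613, 2216, 1909, 443, 980, 737, 3145]) (Model.via _ (mR m0 h0) (fun R => cycB R (subst [[14]] [0]) [3818, 2613, 2216, 1909, 443, 980, 737, 3145]) c25) (Model.via _ (mR m0 h0) (fun R => allL (leafB R yOT (subst [[14]] [0]) [4, 5, 6, 7] [3818, 2613, 2216, 1909, 443, 980, 737, 3145] [] []) yL27) c27) ((m m0 h0).solL_cons ((m m0 h0).sol_cyc [0] (Bc := [3818, 2613, 2216, 1909, 443, 980, 737, 3145]) (T := [3818, 2613, 2216, 1909, 443, 980, 737, 3145]) rfl (Model.via _ (mR m0 h0) (fun R => cycB R (subst [[14]] [0]) [3818, 2613, 2216, 1909,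 443, 980, 737, 3145]) c25) (Model.via _ (mR m0 h0) (fun R => cycB R (subst [[14]] [0]) [3818, 2613, 2216, 1909, 443, 980, 737, 3145]) c26) (yn1 m0 h0 hb hc)) (m m0 h0).solL_nil))
theorem ysol : (m m0 h0).Sol [[14]] yCg [] [] := yn0 m0 h0 hb hc
theorem inj : Function.Injective (m m0 h0).φ := (m m0 h0).inj_of_base (base m0 h0 hb hc)
theorem gtop : gen (m m0 h0).g ([13, 14, 15].map fun x => [x]) = ⊤ :=
  top_of_marks ((m m0 h0).defsOK_g (inj m0 h0 hb hc) ((mR m0 h0).symm ▸ defs_ok)) _ (xtop m0 h0 hb hc) (by decide +kernel)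
theorem cl : ∀ k ∈ Subgroup.centralizer {ev (m m0 h0).g [14]}, ∃ w ∈ CL, k = ev (m m0 h0).g w := fun k hk =>
  list_closed (all_take_done (all_take_step (all_take_zero _ CE) ((m m0 h0).pairs_of (base m0 h0 hb hc) (Model.via _ (mR m0 h0) (fun R => pairsB R [988, 1, 1756, 0] ((CE.drop 0).take 56)) c34))) (by decide +kernel)) (by decide +kernel) k ((m m0 h0).cent_le (ysol m0 h0 hb hc) hk)
theorem ocl : (m m0 h0).OutCl 13 14 15 [(1, [])] :=
  (m m0 h0).outCl (r := 29) (t := 4) (s := 14) (e := 1) (n := 1) (K := [1, 2]) (RL := RL) (EL := EL) hc (by decide +kernel) (by decide +kernel)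
    (all_take_done (all_take_step (all_take_zero _ (Model.outE 13 14 15 [14] 29 4 1 1 RL)) ((m m0 h0).pairs_of (base m0 h0 hb hc) (Model.via _ (mR m0 h0) (fun R => pairsB R [988, 1, 1756, 0] (((Model.outE 13 14 15 [14] 29 4 1 1 RL).drop 0).take 6)) c35))) (by decide +kernel)) ((m m0 h0).ne_of_neB (Model.via _ (mR m0 h0) (fun R => neB R [13] [] 0 1758 0) c36)) (xsol m0 h0 hb hc) (cl m0 h0 hb hc)
    (by decide +kernel) (by decide +kernel) (all_take_done (all_take_step (all_take_zero _ EL) (allL_spec (Model.via _ (mR m0 h0) (fun R => allL (elimB R 13 14 15 RL [(1, [])]) ((EL.drop 0).take 56)) c37))) (by decide +kernel))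
theorem out : Nat.card (Cfsg.Out G) = 1 := (m m0 h0).out_one (gtop m0 h0 hb hc) (ocl m0 h0 hb hc)
end H0.ORu
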